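import Groth.Agent.EtaEtLib.Basic
import Mathlib.Algebra.TrivSqZeroExt.Basic
import Mathlib.RingTheory.Localization.FractionRing
import Mathlib.RingTheory.Polynomial.Basic
import Mathlib.RingTheory.MvPolynomial.Basic
import Mathlib.RingTheory.Kaehler.Polynomial
import Mathlib.RingTheory.Derivation.Basic
import Mathlib.RingTheory.Localization.Away.Basic

/-!
# The standard node over a discrete valuation ring

Structure of `Q = V[x,y]/(xy - ϖ)` and of its open subschemes `Q[1/h]`: the two components, derivations, and the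
vanishing of `df` on a component for `f` étale on the generic fibre.
-/

set_option autoImplicit false
set_option linter.style.haveILetI false

universe u

open MvPolynomial

noncomputable section

namespace NodeEtaLib

variable {V : Type u} [CommRing V] (ϖ : V)

/-- The node ring. -/
abbrev Q := MvPolynomial (Fin 2) V ⧸ Ideal.span {(X 0 * X 1 - C ϖ : MvPolynomial (Fin 2) V)}

/-- The two coordinates. -/
abbrev gen (i : Fin 2) : Q ϖ := Ideal.Quotient.mk _ (X i : MvPolynomial (Fin 2) V)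

theorem gen_mul {i j : Fin 2} (hij : i ≠ j) : gen ϖ i * gen ϖ j = algebraMap V (Q ϖ) ϖ := by
  have h : gen ϖ 0 * gen ϖ 1 = algebraMap V (Q ϖ) ϖ := by
    show Ideal.Quotient.mk _ _ * Ideal.Quotient.mk _ _ = Ideal.Quotient.mk _ (C ϖ)
    rw [← map_mul, Ideal.Quotient.eq]
    exact Ideal.mem_span_singleton_self _
  fin_cases i <;> fin_cases j <;> first | exact absurd rfl hij | exact h | exact (mul_comm _ _).trans h

theorem gen_dvd_varpi (i : Fin 2) : gen ϖ i ∣ algebraMap V (Q ϖ) ϖ := by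
  fin_cases i
  · exact ⟨_, (gen_mul ϖ (i := 0) (j := 1) (by decide)).symm⟩
  · exact ⟨_, (gen_mul ϖ (i := 1) (j := 0) (by decide)).symm⟩

theorem decomp {i j : Fin 2} (hij : i ≠ j) (q : Q ϖ) :
    ∃ p : Polynomial V, gen ϖ i ∣ q - Polynomial.aeval (gen ϖ j) p := by
  obtain ⟨P, rfl⟩ := Ideal.Quotient.mk_surjective q
  induction P using MvPolynomial.induction_on with
  | C a => exact ⟨Polynomial.C a, by rw [Polynomial.aeval_C, show (Ideal.Quotient.mk _ (C a) : Q ϖ) = algebraMap V (Q ϖ) a from rfl, sub_self]; exact dvd_zero _⟩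
  | add P R hP hR =>
    obtain ⟨p, hp⟩ := hP; obtain ⟨r, hr⟩ := hR
    exact ⟨p + r, by rw [map_add, map_add, add_sub_add_comm]; exact dvd_add hp hr⟩
  | mul_X P n hP =>
    obtain ⟨p, hp⟩ := hP
    rcases (by omega : n = i ∨ n = j) with rfl | rfl
    · exact ⟨0, by rw [map_zero, sub_zero, map_mul]; exact dvd_mul_left _ _⟩
    · exact ⟨p * Polynomial.X, by rw [map_mul, map_mul, Polynomial.aeval_X, ← sub_mul]; exact hp.mul_right _⟩

theorem decomp₀ (q : Q ϖ) : ∃ v : V, q - algebraMap V (Q ϖ) v ∈ Ideal.span ({gen ϖ 0, gen ϖ 1} : Set (Q ϖ)) := by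
  obtain ⟨p, r, hr⟩ := decomp ϖ (i := 0) (j := 1) (by decide) q
  refine ⟨p.coeff 0, ?_⟩
  obtain ⟨s, hs⟩ : gen ϖ 1 ∣ Polynomial.aeval (gen ϖ 1) p - algebraMap V (Q ϖ) (p.coeff 0) := by
    refine ⟨Polynomial.aeval (gen ϖ 1) p.divX, ?_⟩
    have := congrArg (Polynomial.aeval (gen ϖ 1)) p.X_mul_divX_add
    rw [map_add, map_mul, Polynomial.aeval_X, Polynomial.aeval_C] at this
    linear_combination -this
  rw [Ideal.mem_span_pair]
  exact ⟨r, s, by linear_combination -hr - hs⟩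

section DVR

variable [IsDomain V] [IsDiscreteValuationRing V] (hϖ : Irreducible ϖ)

local notation "k" => IsLocalRing.ResidueField V
local notation "L" => FractionRing (Polynomial (IsLocalRing.ResidueField V))

theorem residue_varpi (hϖ : Irreducible ϖ) : algebraMap V k ϖ = 0 := by
  rw [IsLocalRing.ResidueField.algebraMap_eq, IsLocalRing.residue_eq_zero_iff]
  exact hϖ.not_isUnit

/-- The parameter of a component. -/
abbrev T : L := algebraMap (Polynomial k) L Polynomial.X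

/-- Restriction to the component `gen i = 0`. -/
def branch (i : Fin 2) : Q ϖ →ₐ[V] L :=
  Ideal.Quotient.liftₐ _ (aeval fun n => if n = i then 0 else T) (fun p hp => by
    obtain ⟨r, rfl⟩ := Ideal.mem_span_singleton.mp hp
    rw [map_mul, map_sub, map_mul, aeval_X, aeval_X, aeval_C]
    have h0 : algebraMap V L ϖ = 0 := by
      rw [IsScalarTower.algebraMap_apply V (Polynomial k) L, IsScalarTower.algebraMap_apply V k (Polynomial k),
        residue_varpi ϖ hϖ, map_zero, map_zero]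
    fin_cases i <;> simp [h0])

theorem branch_gen (i n : Fin 2) : branch ϖ hϖ i (gen ϖ n) = if n = i then 0 else T :=
  aeval_X _ n

theorem branch_aeval {i j : Fin 2} (hij : i ≠ j) (p : Polynomial V) :
    branch ϖ hϖ i (Polynomial.aeval (gen ϖ j) p) = algebraMap (Polynomial k) L (p.map (IsLocalRing.residue V)) := by
  rw [← Polynomial.aeval_algHom_apply, branch_gen, if_neg hij.symm, T, Polynomial.aeval_algebraMap_apply,
    ← IsLocalRing.ResidueField.algebraMap_eq]
  congr 1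

theorem branch_eq_zero_iff {i j : Fin 2} (hij : i ≠ j) (q : Q ϖ) : branch ϖ hϖ i q = 0 ↔ gen ϖ i ∣ q := by
  refine ⟨fun h => ?_, fun ⟨r, hr⟩ => by rw [hr, map_mul, branch_gen, if_pos rfl, zero_mul]⟩
  obtain ⟨p, r, hr⟩ := decomp ϖ hij q
  rw [sub_eq_iff_eq_add] at hr
  rw [hr, map_add, map_mul, branch_gen, if_pos rfl, zero_mul, zero_add, branch_aeval ϖ hϖ hij] at h
  rw [map_eq_zero_iff _ (IsFractionRing.injective (Polynomial k) L)] at h
  have hp : Polynomial.C ϖ ∣ p := by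
    rw [Polynomial.C_dvd_iff_dvd_coeff]
    intro n
    rw [← Ideal.mem_span_singleton, ← hϖ.maximalIdeal_eq, ← IsLocalRing.residue_eq_zero_iff,
      ← Polynomial.coeff_map, h, Polynomial.coeff_zero]
  obtain ⟨p', rfl⟩ := hp
  rw [hr, map_mul, Polynomial.aeval_C]
  exact dvd_add (dvd_mul_right _ _) ((gen_dvd_varpi ϖ i).mul_right _)

/-- Evaluation at the node. -/
def origin : Q ϖ →ₐ[V] k :=
  Ideal.Quotient.liftₐ _ (aeval fun _ => 0) (fun p hp => by
    obtain ⟨r, rfl⟩ := Ideal.mem_span_singleton.mp hp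
    rw [map_mul, map_sub, map_mul, aeval_X, aeval_X, aeval_C, residue_varpi ϖ hϖ]
    simp)

theorem origin_gen (n : Fin 2) : origin ϖ hϖ (gen ϖ n) = 0 := aeval_X _ n

theorem origin_eq_zero_iff (q : Q ϖ) :
    origin ϖ hϖ q = 0 ↔ q ∈ Ideal.span ({gen ϖ 0, gen ϖ 1} : Set (Q ϖ)) := by
  constructor
  · intro h
    obtain ⟨v, hv⟩ := decomp₀ ϖ q
    obtain ⟨r, s, hrs⟩ := Ideal.mem_span_pair.mp hv
    rw [eq_sub_iff_add_eq] at hrs
    rw [← hrs, map_add, map_add, map_mul, map_mul, origin_gen, origin_gen, mul_zero, mul_zero, add_zero, zero_add,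
      AlgHom.commutes, IsLocalRing.ResidueField.algebraMap_eq, IsLocalRing.residue_eq_zero_iff, hϖ.maximalIdeal_eq,
      Ideal.mem_span_singleton] at h
    obtain ⟨c, rfl⟩ := h
    rw [← hrs, map_mul, ← gen_mul ϖ (i := 0) (j := 1) (by decide)]
    exact add_mem (add_mem (Ideal.mul_mem_left _ _ (Ideal.subset_span (by simp)))
      (Ideal.mul_mem_left _ _ (Ideal.subset_span (by simp))))
      (Ideal.mul_mem_right _ _ (Ideal.mul_mem_right _ _ (Ideal.subset_span (by simp))))
  · intro h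
    obtain ⟨r, s, rfl⟩ := Ideal.mem_span_pair.mp h
    rw [map_add, map_mul, map_mul, origin_gen, origin_gen, mul_zero, mul_zero, add_zero]

include hϖ in
theorem gen_regular {i j : Fin 2} (hij : i ≠ j) (q : Q ϖ) (h : gen ϖ i * q = 0) : q = 0 := by
  obtain ⟨P, rfl⟩ := Ideal.Quotient.mk_surjective q
  rw [← map_mul, Ideal.Quotient.eq_zero_iff_mem, Ideal.mem_span_singleton] at h
  obtain ⟨R, hR⟩ := h
  have hprod : (X 0 * X 1 : MvPolynomial (Fin 2) V) = X i * X j := by
    fin_cases i <;> fin_cases j <;> first | exact absurd rfl hij | rfl | exact mul_comm _ _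
  rw [hprod] at hR
  obtain ⟨R', rfl⟩ : (X i : MvPolynomial (Fin 2) V) ∣ R := by
    have hd : (X i : MvPolynomial (Fin 2) V) ∣ C ϖ * R := ⟨X j * R - P, by linear_combination hR⟩
    rw [X_dvd_iff_modMonomial_eq_zero] at hd ⊢
    ext m
    have := congrArg (coeff m) hd
    rw [coeff_zero] at this ⊢
    by_cases hm : Finsupp.single i 1 ≤ m
    · rw [coeff_modMonomial_of_le _ hm]
    · rw [coeff_modMonomial_of_not_le _ hm, coeff_C_mul, mul_eq_zero] at this
      rw [coeff_modMonomial_of_not_le _ hm]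
      exact this.resolve_left hϖ.ne_zero
  rw [Ideal.Quotient.eq_zero_iff_mem, Ideal.mem_span_singleton, hprod]
  exact ⟨R', mul_left_cancel₀ (X_ne_zero i) (by linear_combination hR)⟩

end DVR

section Away

variable (h : Q ϖ)

local notation "B" => Localization.Away h

/-- The coordinates on an open subscheme. -/
abbrev bgen (i : Fin 2) : B := algebraMap (Q ϖ) B (gen ϖ i)

theorem exists_num (z : B) : ∃ (n : ℕ) (q : Q ϖ), z * algebraMap (Q ϖ) B h ^ n = algebraMap (Q ϖ) B q :=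
  IsLocalization.Away.surj h z

theorem isUnit_h : IsUnit (algebraMap (Q ϖ) B h) := IsLocalization.Away.algebraMap_isUnit h

/-- A derivation of an open subscheme of the node with given values on the coordinates. -/
theorem exists_derivation (C₀ : Type u) [CommRing C₀] [Algebra V C₀] [Algebra B C₀] [IsScalarTower V B C₀]
    (p : Fin 2 → C₀)
    (hp : algebraMap B C₀ (bgen ϖ h 0) * p 1 + algebraMap B C₀ (bgen ϖ h 1) * p 0 = 0) :
    ∃ D : Derivation V B C₀, ∀ n, D (bgen ϖ h n) = p n := by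
  let g : Q ϖ →ₐ[V] C₀ := (IsScalarTower.toAlgHom V B C₀).comp (IsScalarTower.toAlgHom V (Q ϖ) B)
  have hg : g (gen ϖ 0) * g (gen ϖ 1) = algebraMap V C₀ ϖ := by
    rw [← map_mul, gen_mul ϖ (by decide), AlgHom.commutes]
  let t : Fin 2 → TrivSqZeroExt C₀ C₀ := fun n => TrivSqZeroExt.inl (g (gen ϖ n)) + TrivSqZeroExt.inr (p n)
  let τQ : Q ϖ →ₐ[V] TrivSqZeroExt C₀ C₀ := Ideal.Quotient.liftₐ _ (aeval t) (fun P hP => by
    obtain ⟨R, rfl⟩ := Ideal.mem_span_singleton.mp hP
    rw [map_mul, map_sub, map_mul, aeval_X, aeval_X, aeval_C]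
    suffices e : t 0 * t 1 = algebraMap V (TrivSqZeroExt C₀ C₀) ϖ by rw [e, sub_self, zero_mul]
    refine TrivSqZeroExt.ext ?_ ?_
    · rw [TrivSqZeroExt.fst_mul, TrivSqZeroExt.algebraMap_eq_inl', TrivSqZeroExt.fst_inl]
      simpa [t] using hg
    · rw [TrivSqZeroExt.snd_mul, TrivSqZeroExt.algebraMap_eq_inl', TrivSqZeroExt.snd_inl]
      simp only [t, TrivSqZeroExt.fst_add, TrivSqZeroExt.fst_inl, TrivSqZeroExt.fst_inr, TrivSqZeroExt.snd_add,
        TrivSqZeroExt.snd_inl, TrivSqZeroExt.snd_inr, add_zero, zero_add, smul_eq_mul, op_smul_eq_mul]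
      rw [← hp]
      show g (gen ϖ 0) * p 1 + p 0 * g (gen ϖ 1) = _
      rw [mul_comm (p 0)]
      rfl)
  have hfst : (TrivSqZeroExt.fstHom V C₀ C₀).comp τQ = g := by
    refine Ideal.Quotient.algHom_ext _ (MvPolynomial.algHom_ext fun n => ?_)
    show (aeval t (X n)).fst = g (gen ϖ n)
    simp [t]
  have hu : ∀ y : Submonoid.powers h, IsUnit (τQ y) := by
    rintro ⟨_, m, rfl⟩
    rw [map_pow]
    refine (TrivSqZeroExt.isUnit_iff_isUnit_fst.mpr ?_).pow m
    rw [show (τQ h).fst = g h from AlgHom.congr_fun hfst h]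
    exact (isUnit_h ϖ h).map (algebraMap B C₀)
  let τ : B →ₐ[V] TrivSqZeroExt C₀ C₀ := IsLocalization.liftAlgHom hu
  have hτ : ∀ q, τ (algebraMap (Q ϖ) B q) = τQ q := fun q => IsLocalization.lift_eq _ q
  have hτfst : ∀ b, (τ b).fst = algebraMap B C₀ b := by
    have : (TrivSqZeroExt.fstHom V C₀ C₀).comp τ = IsScalarTower.toAlgHom V B C₀ :=
      IsLocalization.algHom_ext (Submonoid.powers h) (AlgHom.ext fun q => by
        show (τ (algebraMap (Q ϖ) B q)).fst = _
        rw [hτ]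
        exact AlgHom.congr_fun hfst q)
    exact fun b => AlgHom.congr_fun this b
  let lin : B →ₗ[V] C₀ :=
    { toFun := fun b => (τ b).snd
      map_add' := fun a b => by rw [map_add, TrivSqZeroExt.snd_add]
      map_smul' := fun c b => by rw [map_smul, TrivSqZeroExt.snd_smul]; rfl }
  refine ⟨Derivation.mk' lin fun a b => ?_, fun n => ?_⟩
  · show (τ (a * b)).snd = a • (τ b).snd + b • (τ a).snd
    rw [map_mul, TrivSqZeroExt.snd_mul, hτfst, hτfst, op_smul_eq_mul, smul_eq_mul, Algebra.smul_def, Algebra.smul_def,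
      mul_comm (τ a).snd]
  · show (τ (bgen ϖ h n)).snd = p n
    rw [hτ]
    show (aeval t (X n)).snd = p n
    simp [t]

/-- Derivations are determined by their values on the coordinates. -/
theorem derivation_ext {M : Type u} [AddCommGroup M] [Module B M] [Module V M] (D₁ D₂ : Derivation V B M)
    (hD : ∀ n, D₁ (bgen ϖ h n) = D₂ (bgen ϖ h n)) : D₁ = D₂ := by
  rw [← sub_eq_zero]
  set E := D₁ - D₂
  have hE : ∀ n, E (bgen ϖ h n) = 0 := fun n => by rw [Derivation.sub_apply, hD, sub_self]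
  have hQ : ∀ q : Q ϖ, E (algebraMap (Q ϖ) B q) = 0 := fun q => by
    obtain ⟨P, rfl⟩ := Ideal.Quotient.mk_surjective q
    induction P using MvPolynomial.induction_on with
    | C a =>
      rw [show (Ideal.Quotient.mk _ (C a) : Q ϖ) = algebraMap V (Q ϖ) a from rfl, ← IsScalarTower.algebraMap_apply,
        Derivation.map_algebraMap]
    | add P R hP hR => rw [map_add, map_add, map_add, hP, hR, add_zero]
    | mul_X P n hP => rw [map_mul, map_mul, Derivation.leibniz, hP, hE, smul_zero, smul_zero, add_zero]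
  ext z
  obtain ⟨m, q, hq⟩ := exists_num ϖ h z
  have h1 := congrArg E hq
  rw [hQ, Derivation.leibniz, ← map_pow, hQ, smul_zero, zero_add, map_pow] at h1
  exact ((isUnit_h ϖ h).pow m).smul_eq_zero.mp h1

variable [IsDomain V] [IsDiscreteValuationRing V] (hϖ : Irreducible ϖ)

local notation "L" => FractionRing (Polynomial (IsLocalRing.ResidueField V))

include hϖ in
theorem bgen_regular {i j : Fin 2} (hij : i ≠ j) (z : B) (hz : bgen ϖ h i * z = 0) : z = 0 := by
  obtain ⟨m, q, hq⟩ := exists_num ϖ h z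
  have h1 : algebraMap (Q ϖ) B (gen ϖ i * q) = 0 := by rw [map_mul, ← hq, ← mul_assoc, hz, zero_mul]
  obtain ⟨⟨s, hs⟩, hs'⟩ := (IsLocalization.map_eq_zero_iff (Submonoid.powers h) B _).mp h1
  have h2 : s * q = 0 := gen_regular ϖ hϖ hij _ (by linear_combination hs')
  have hq0 : algebraMap (Q ϖ) B q = 0 :=
    (IsLocalization.map_eq_zero_iff (Submonoid.powers h) B _).mpr ⟨⟨s, hs⟩, h2⟩
  rw [hq0] at hq
  exact ((isUnit_h ϖ h).pow m).mul_left_eq_zero.mp hq

include hϖ in
theorem exists_component {i j : Fin 2} (hij : i ≠ j) (hh : ¬ gen ϖ i ∣ h) :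
    ∃ ψ : B →ₐ[V] L, (∀ z, ψ z = 0 ↔ bgen ϖ h i ∣ z) ∧ ψ (bgen ϖ h j) = T ∧
      ∀ q, ψ (algebraMap (Q ϖ) B q) = branch ϖ hϖ i q := by
  have hh0 : branch ϖ hϖ i h ≠ 0 := fun e => hh ((branch_eq_zero_iff ϖ hϖ hij h).mp e)
  have hu : ∀ y : Submonoid.powers h, IsUnit (branch ϖ hϖ i y) := by
    rintro ⟨_, m, rfl⟩
    rw [map_pow]
    exact (isUnit_iff_ne_zero.mpr hh0).pow m
  let ψ : B →ₐ[V] L := IsLocalization.liftAlgHom hu
  have hψ : ∀ q, ψ (algebraMap (Q ϖ) B q) = branch ϖ hϖ i q := fun q => IsLocalization.lift_eq _ q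
  refine ⟨ψ, fun z => ⟨fun hz => ?_, ?_⟩, by rw [hψ, branch_gen, if_neg hij.symm], hψ⟩
  · obtain ⟨m, q, hq⟩ := exists_num ϖ h z
    have h1 : branch ϖ hϖ i q = 0 := by rw [← hψ, ← hq, map_mul, hz, zero_mul]
    obtain ⟨r, rfl⟩ := (branch_eq_zero_iff ϖ hϖ hij q).mp h1
    rw [map_mul] at hq
    exact (((isUnit_h ϖ h).pow m).dvd_mul_right).mp ⟨_, hq⟩
  · rintro ⟨r, rfl⟩
    rw [map_mul, hψ, branch_gen, if_pos rfl, zero_mul]

include hϖ in
theorem not_dvd_of_not_mem (hh : h ∉ Ideal.span ({gen ϖ 0, gen ϖ 1} : Set (Q ϖ))) (i : Fin 2) : ¬ gen ϖ i ∣ h :=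
  fun ⟨r, hr⟩ => hh (hr ▸ Ideal.mul_mem_right _ _ (Ideal.subset_span (by fin_cases i <;> simp)))

include hϖ in
/-- A nonunit dividing `x^p y^q` is divisible by `x` or by `y`. -/
theorem dvd_of_dvd_pow (hh : h ∉ Ideal.span ({gen ϖ 0, gen ϖ 1} : Set (Q ϖ))) (u : B) (hu : ¬ IsUnit u) :
    ∀ (s p q : ℕ) (v : B), p + q = s → u * v = bgen ϖ h 0 ^ p * bgen ϖ h 1 ^ q →
      bgen ϖ h 0 ∣ u ∨ bgen ϖ h 1 ∣ u := by
  obtain ⟨ψ₀, h₀, -, -⟩ := exists_component ϖ h hϖ (i := 0) (j := 1) (by decide) (not_dvd_of_not_mem ϖ h hϖ hh 0)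
  obtain ⟨ψ₁, h₁, -, -⟩ := exists_component ϖ h hϖ (i := 1) (j := 0) (by decide) (not_dvd_of_not_mem ϖ h hϖ hh 1)
  intro s
  induction s with
  | zero =>
    intro p q v hpq he
    obtain ⟨rfl, rfl⟩ : p = 0 ∧ q = 0 := by omega
    rw [pow_zero, pow_zero, one_mul] at he
    exact absurd (IsUnit.of_mul_eq_one v he) hu
  | succ s ih =>
    intro p q v hpq he
    rcases p with _ | p
    · obtain ⟨q, rfl⟩ : ∃ q', q = q' + 1 := ⟨q - 1, by omega⟩
      have h2 : ψ₁ u * ψ₁ v = 0 := by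
        rw [← map_mul, he, map_mul, map_pow ψ₁ (bgen ϖ h 1), (h₁ _).mpr dvd_rfl, zero_pow (Nat.succ_ne_zero _),
          mul_zero]
      rcases mul_eq_zero.mp h2 with h3 | h3
      · exact Or.inr ((h₁ _).mp h3)
      obtain ⟨v', rfl⟩ := (h₁ _).mp h3
      refine ih 0 q v' (by omega) (sub_eq_zero.mp (bgen_regular ϖ h hϖ (i := 1) (j := 0) (by decide) _ ?_))
      linear_combination he
    · have h2 : ψ₀ u * ψ₀ v = 0 := by
        rw [← map_mul, he, map_mul, map_pow ψ₀ (bgen ϖ h 0), (h₀ _).mpr dvd_rfl, zero_pow (Nat.succ_ne_zero _),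
          zero_mul]
      rcases mul_eq_zero.mp h2 with h3 | h3
      · exact Or.inl ((h₀ _).mp h3)
      obtain ⟨v', rfl⟩ := (h₀ _).mp h3
      refine ih p q v' (by omega) (sub_eq_zero.mp (bgen_regular ϖ h hϖ (i := 0) (j := 1) (by decide) _ ?_))
      linear_combination he

end Away

end NodeEtaLib
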