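import Groth.Agent.NodeEtaLib.Basic
import Mathlib.Algebra.Polynomial.Derivative
import Mathlib.RingTheory.RingHom.QuasiFinite
import Mathlib.Algebra.Polynomial.AlgebraMap

/-!
# A function on the node étale on the generic fibre has vanishing differential on a component
-/

set_option autoImplicit false
set_option linter.style.haveILetI false

universe u

open MvPolynomial

noncomputable section

namespace NodeEtaLib

/-- Two polynomials with vanishing Wronskian are proportional in characteristic zero. -/
theorem exists_const_of_wronskian {F : Type u} [Field F] [CharZero F] (P H : Polynomial F) (hH : H ≠ 0)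
    (h : Polynomial.derivative P * H = P * Polynomial.derivative H) : ∃ c : F, P = Polynomial.C c * H := by
  have key : ∀ R : Polynomial F, R ≠ 0 → Polynomial.derivative R * H = R * Polynomial.derivative H →
      R.natDegree = H.natDegree := by
    intro R hR hRH
    have hc := congrArg (fun p : Polynomial F => (Polynomial.X * p).coeff (R.natDegree + H.natDegree)) hRH
    rw [← mul_assoc, mul_left_comm] at hc
    have hd : ∀ p : Polynomial F, (Polynomial.X * Polynomial.derivative p).coeff p.natDegree =
        (p.natDegree : F) * p.leadingCoeff := fun p => by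
      rcases hn : p.natDegree with _ | n
      · simp
      · rw [Polynomial.coeff_X_mul, Polynomial.coeff_derivative, Polynomial.leadingCoeff, hn]
        push_cast
        ring
    have hle : ∀ p : Polynomial F, (Polynomial.X * Polynomial.derivative p).natDegree ≤ p.natDegree := fun p => by
      refine Polynomial.natDegree_le_iff_coeff_eq_zero.mpr fun N hN => ?_
      obtain ⟨N, rfl⟩ : ∃ N', N = N' + 1 := ⟨N - 1, by omega⟩
      rw [Polynomial.coeff_X_mul, Polynomial.coeff_derivative,
        Polynomial.coeff_eq_zero_of_natDegree_lt (by omega), zero_mul]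
    rw [Polynomial.coeff_mul_add_eq_of_natDegree_le (hle R) le_rfl,
      Polynomial.coeff_mul_add_eq_of_natDegree_le le_rfl (hle H), hd, hd, Polynomial.coeff_natDegree,
      Polynomial.coeff_natDegree] at hc
    have hc' : (R.natDegree : F) = H.natDegree := mul_right_cancel₀
      (mul_ne_zero (Polynomial.leadingCoeff_ne_zero.mpr hR) (Polynomial.leadingCoeff_ne_zero.mpr hH))
      (by linear_combination hc)
    exact_mod_cast hc'
  by_cases hP : P = 0
  · exact ⟨0, by simp [hP]⟩
  refine ⟨P.leadingCoeff / H.leadingCoeff, sub_eq_zero.mp ?_⟩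
  set c := P.leadingCoeff / H.leadingCoeff
  by_contra hR
  set R := P - Polynomial.C c * H
  have hRdeg := key R hR (by
    simp only [R, map_sub, Polynomial.derivative_C_mul]
    linear_combination h)
  refine Polynomial.leadingCoeff_ne_zero.mpr hR ?_
  rw [Polynomial.leadingCoeff, hRdeg, Polynomial.coeff_sub, Polynomial.coeff_C_mul, Polynomial.coeff_natDegree,
    ← key P hP h, Polynomial.coeff_natDegree, div_mul_cancel₀ _ (Polynomial.leadingCoeff_ne_zero.mpr hH), sub_self]

variable {V : Type u} [CommRing V] [IsDomain V] [IsDiscreteValuationRing V] (ϖ : V) (hϖ : Irreducible ϖ)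
  (h : Q ϖ) (hh : h ∉ Ideal.span ({gen ϖ 0, gen ϖ 1} : Set (Q ϖ)))

local notation "B" => Localization.Away h
local notation "k" => IsLocalRing.ResidueField V
local notation "L" => FractionRing (Polynomial (IsLocalRing.ResidueField V))

include hϖ in
/-- If `θ f` vanishes on a component then `df` does, and in characteristic zero the component is contracted. -/
theorem vanishing_on_component {i j : Fin 2} (hij : i ≠ j) (hhi : ¬ gen ϖ i ∣ h) (θ : Derivation V B B) (s : B)
    (hs : IsUnit s) (hθi : bgen ϖ h i ∣ θ (bgen ϖ h i)) (hθj : θ (bgen ϖ h j) = s * bgen ϖ h j) (f : B)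
    (hf : bgen ϖ h i ∣ θ f) :
    KaehlerDifferential.D V (B ⧸ Ideal.span ({bgen ϖ h i} : Set B)) (Ideal.Quotient.mk _ f) = 0 ∧
    (CharZero k → ¬ (Polynomial.aeval f : Polynomial V →ₐ[V] B).toRingHom.QuasiFinite) := by
  let C₀ := B ⧸ Ideal.span ({bgen ϖ h i} : Set B)
  obtain ⟨ψ, hψ, hψj, hψQ⟩ := exists_component ϖ h hϖ hij hhi
  let ψb : C₀ →ₐ[V] L := Ideal.Quotient.liftₐ _ ψ fun z hz => (hψ z).mpr (Ideal.mem_span_singleton.mp hz)
  have hψb : ∀ z, ψb (algebraMap B C₀ z) = ψ z := fun z => rfl
  have hψb0 : ∀ c, ψb c = 0 → c = 0 := fun c hc => by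
    obtain ⟨z, rfl⟩ := Ideal.Quotient.mk_surjective c
    exact Ideal.Quotient.eq_zero_iff_mem.mpr (Ideal.mem_span_singleton.mpr ((hψ z).mp hc))
  have hi0 : algebraMap B C₀ (bgen ϖ h i) = 0 :=
    Ideal.Quotient.eq_zero_iff_mem.mpr (Ideal.mem_span_singleton_self _)
  obtain ⟨δ, hδ⟩ := exists_derivation ϖ h C₀ (fun n => if n = i then 0 else 1) (by
    fin_cases i
    · simp at hi0 ⊢; exact hi0
    · simp at hi0 ⊢; exact hi0)
  have hT : ψb (algebraMap B C₀ (bgen ϖ h j)) ≠ 0 := by
    rw [hψb, hψj]
    exact (map_ne_zero_iff _ (IsFractionRing.injective (Polynomial k) L)).mpr Polynomial.X_ne_zero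
  have hn : ∀ n : Fin 2, n = i ∨ n = j := fun n => by omega
  have e1 : (Algebra.linearMap B C₀).compDer θ =
      (LinearMap.mulLeft B (algebraMap B C₀ (s * bgen ϖ h j))).compDer δ := derivation_ext ϖ h _ _ fun n => by
    show algebraMap B C₀ (θ (bgen ϖ h n)) = algebraMap B C₀ (s * bgen ϖ h j) * δ (bgen ϖ h n)
    rcases hn n with rfl | rfl
    · obtain ⟨r, hr⟩ := hθi
      rw [hδ, if_pos rfl, mul_zero, hr, map_mul, hi0, zero_mul]
    · rw [hδ, if_neg hij.symm, mul_one, hθj]
  have hδf : δ f = 0 := by
    have h1 : algebraMap B C₀ (θ f) = algebraMap B C₀ (s * bgen ϖ h j) * δ f :=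
      congrArg (fun D : Derivation V B C₀ => D f) e1
    obtain ⟨r, hr⟩ := hf
    rw [hr, map_mul, hi0, zero_mul, map_mul] at h1
    refine hψb0 _ ?_
    have h2 := congrArg ψb h1.symm
    rw [map_zero, map_mul, map_mul] at h2
    rcases mul_eq_zero.mp h2 with h3 | h3
    · rcases mul_eq_zero.mp h3 with h4 | h4
      · exact absurd h4 ((hs.map (algebraMap B C₀)).map ψb).ne_zero
      · exact absurd h4 hT
    · exact h3
  constructor
  · have e2 : (KaehlerDifferential.D V C₀).compAlgebraMap B =
        ((LinearMap.toSpanSingleton C₀ _ (KaehlerDifferential.D V C₀ (algebraMap B C₀ (bgen ϖ h j)))).restrictScalars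
          B).compDer δ := derivation_ext ϖ h _ _ fun n => by
      show KaehlerDifferential.D V C₀ (algebraMap B C₀ (bgen ϖ h n)) =
        δ (bgen ϖ h n) • KaehlerDifferential.D V C₀ (algebraMap B C₀ (bgen ϖ h j))
      rcases hn n with rfl | rfl
      · rw [hδ, if_pos rfl, hi0, map_zero]
        exact (map_zero (LinearMap.toSpanSingleton C₀ _ (KaehlerDifferential.D V C₀ (algebraMap B C₀ (bgen ϖ h j))))).symm
      · rw [hδ, if_neg hij.symm]
        exact (LinearMap.toSpanSingleton_apply_one C₀ _ (KaehlerDifferential.D V C₀ (algebraMap B C₀ (bgen ϖ h n)))).symm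
    have h1 : KaehlerDifferential.D V C₀ (algebraMap B C₀ f) =
        δ f • KaehlerDifferential.D V C₀ (algebraMap B C₀ (bgen ϖ h j)) :=
      congrArg (fun D : Derivation V B (Ω[C₀⁄V]) => D f) e2
    rw [hδf] at h1
    exact h1.trans (map_zero (LinearMap.toSpanSingleton C₀ _ (KaehlerDifferential.D V C₀ (algebraMap B C₀ (bgen ϖ h j)))))
  intro _
  -- `f` is constant on the component
  have hpoly : ∀ q : Q ϖ, ∃ P : Polynomial k, ψ (algebraMap _ B q) = algebraMap _ L P ∧
      ψb (δ (algebraMap _ B q)) = algebraMap _ L (Polynomial.derivative P) := fun q => by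
    obtain ⟨p, r, hr⟩ := decomp ϖ hij q
    rw [sub_eq_iff_eq_add] at hr
    refine ⟨p.map (IsLocalRing.residue V), ?_, ?_⟩
    · rw [hψQ, hr, map_add, map_mul, branch_gen, if_pos rfl, zero_mul, zero_add, branch_aeval ϖ hϖ hij]
    · have haev : ∀ p : Polynomial V, algebraMap (Q ϖ) B (Polynomial.aeval (gen ϖ j) p) =
          Polynomial.aeval (bgen ϖ h j) p := fun p => (Polynomial.aeval_algebraMap_apply B (gen ϖ j) p).symm
      rw [hr, map_add, map_mul, haev, map_add, Derivation.leibniz, Derivation.map_aeval, hδ, hδ, if_pos rfl,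
        if_neg hij.symm, smul_zero, add_zero, Algebra.smul_def, hi0, zero_mul, zero_add, Algebra.smul_def, mul_one,
        hψb, ← haev, hψQ, branch_aeval ϖ hϖ hij, Polynomial.derivative_map]
  obtain ⟨m, q, hq⟩ := exists_num ϖ h f
  obtain ⟨P, hP, hP'⟩ := hpoly q
  obtain ⟨H, hH, hH'⟩ := hpoly (h ^ m)
  rw [map_pow] at hH hH'
  have hH0 : algebraMap (Polynomial k) L H ≠ 0 := by
    rw [← hH]
    exact (((isUnit_h ϖ h).pow m).map ψ).ne_zero
  have hFH : ψ f * algebraMap _ L H = algebraMap _ L P := by rw [← hH, ← map_mul, hq, hP]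
  have hFH' : ψ f * algebraMap _ L (Polynomial.derivative H) = algebraMap _ L (Polynomial.derivative P) := by
    rw [← hH', ← hP', ← hq, Derivation.leibniz, hδf, smul_zero, add_zero, Algebra.smul_def, map_mul, hψb]
  obtain ⟨c, hc⟩ := exists_const_of_wronskian P H (fun e => hH0 (by rw [e, map_zero])) (by
    apply IsFractionRing.injective (Polynomial k) L
    rw [map_mul, map_mul, ← hFH, ← hFH']
    ring)
  obtain ⟨v, rfl⟩ := IsLocalRing.residue_surjective c
  have hfv : algebraMap B C₀ f = algebraMap V C₀ v := by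
    apply sub_eq_zero.mp
    apply hψb0
    rw [map_sub, hψb, AlgHom.commutes, sub_eq_zero]
    apply mul_right_cancel₀ hH0
    rw [hFH, hc, map_mul, IsScalarTower.algebraMap_apply V (Polynomial k) L,
      IsScalarTower.algebraMap_apply V k (Polynomial k), Polynomial.algebraMap_eq,
      IsLocalRing.ResidueField.algebraMap_eq]
  intro hQF
  letI algB : Algebra (Polynomial V) B := (Polynomial.aeval f).toRingHom.toAlgebra
  haveI : Algebra.QuasiFinite (Polynomial V) B := hQF
  have hker : ∀ a ∈ IsLocalRing.maximalIdeal V, algebraMap V C₀ a = 0 := fun a ha => by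
    rw [hϖ.maximalIdeal_eq] at ha
    obtain ⟨r, rfl⟩ := Ideal.mem_span_singleton.mp ha
    have he : algebraMap V C₀ ϖ = algebraMap B C₀ (bgen ϖ h i) * algebraMap B C₀ (bgen ϖ h j) := by
      rw [← map_mul, ← map_mul, gen_mul ϖ hij, ← IsScalarTower.algebraMap_apply, ← IsScalarTower.algebraMap_apply]
    rw [map_mul, he, hi0, zero_mul, zero_mul]
  letI algk : Algebra k C₀ := (Ideal.Quotient.lift _ (algebraMap V C₀) hker : k →+* C₀).toAlgebra
  letI algP : Algebra (Polynomial V) k := (Polynomial.aeval (IsLocalRing.residue V v)).toRingHom.toAlgebra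
  haveI : IsScalarTower (Polynomial V) k C₀ := IsScalarTower.of_algebraMap_eq' (by
    refine Polynomial.ringHom_ext (fun a => ?_) ?_
    · show algebraMap B C₀ (Polynomial.aeval f (Polynomial.C a)) =
        algebraMap k C₀ (Polynomial.aeval (IsLocalRing.residue V v) (Polynomial.C a))
      rw [Polynomial.aeval_C, Polynomial.aeval_C, ← IsScalarTower.algebraMap_apply]
      rfl
    · show algebraMap B C₀ (Polynomial.aeval f Polynomial.X) =
        algebraMap k C₀ (Polynomial.aeval (IsLocalRing.residue V v) Polynomial.X)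
      rw [Polynomial.aeval_X, Polynomial.aeval_X, hfv]
      rfl)
  haveI : Algebra.QuasiFinite (Polynomial V) C₀ := inferInstance
  haveI : Algebra.QuasiFinite k C₀ := Algebra.QuasiFinite.of_restrictScalars (Polynomial V) k C₀
  haveI : Module.Finite k C₀ := Module.Finite.of_quasiFinite
  obtain ⟨G, hG, hG0⟩ := Algebra.IsIntegral.isIntegral (R := k) (algebraMap B C₀ (bgen ϖ h j))
  have hcomp : ψb.toRingHom.comp (algebraMap k C₀) = algebraMap k L := by
    refine RingHom.ext fun c => ?_
    obtain ⟨a, rfl⟩ := IsLocalRing.residue_surjective c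
    show ψb (algebraMap V C₀ a) = _
    rw [AlgHom.commutes, IsScalarTower.algebraMap_apply V k L, IsLocalRing.ResidueField.algebraMap_eq]
  have hG1 := congrArg ψb.toRingHom hG0
  rw [map_zero, Polynomial.hom_eval₂, hcomp, show ψb.toRingHom (algebraMap B C₀ (bgen ϖ h j)) = T from (hψb _).trans hψj,
    ← Polynomial.aeval_def, T, Polynomial.aeval_algebraMap_apply, Polynomial.aeval_X_left_apply,
    map_eq_zero_iff _ (IsFractionRing.injective (Polynomial k) L)] at hG1
  exact hG.ne_zero hG1

include hϖ hh in
/-- For `f` étale on the generic fibre, `θ f` is divisible by one of the coordinates. -/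
theorem exists_dvd (θ : Derivation V B B) (hθ : ∀ n, bgen ϖ h n ∣ θ (bgen ϖ h n)) (hθ0 : θ (bgen ϖ h 0) = bgen ϖ h 0)
    (f : B) (hf : ((algebraMap B (Localization.Away (algebraMap V B ϖ))).comp
      (Polynomial.aeval f : Polynomial V →ₐ[V] B).toRingHom).Etale) :
    bgen ϖ h 0 ∣ θ f ∨ bgen ϖ h 1 ∣ θ f := by
  letI algB : Algebra (Polynomial V) B := (Polynomial.aeval f).toRingHom.toAlgebra
  haveI : IsScalarTower V (Polynomial V) B :=
    IsScalarTower.of_algebraMap_eq fun a => ((Polynomial.aeval f).commutes a).symm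
  haveI : Algebra.FiniteType V B :=
    Algebra.FiniteType.trans (R := V) (S := Q ϖ) inferInstance
      (IsLocalization.finiteType_of_monoid_fg (Submonoid.powers h) B)
  haveI : Algebra.FiniteType (Polynomial V) B := Algebra.FiniteType.of_restrictScalars_finiteType V _ _
  have het : (algebraMap (Polynomial V) (Localization.Away (algebraMap V B ϖ))).Etale := by
    rw [IsScalarTower.algebraMap_eq (Polynomial V) B]
    exact hf
  haveI := RingHom.etale_algebraMap.mp het
  obtain ⟨m, hm⟩ := (EtaEtLib.formallyUnramified_away_iff (Polynomial V) B _).mp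
    (inferInstance : Algebra.FormallyUnramified (Polynomial V) (Localization.Away (algebraMap V B ϖ)))
  have hker : KaehlerDifferential.map V (Polynomial V) B B
      (algebraMap V B ϖ ^ m • KaehlerDifferential.D V B (bgen ϖ h 0)) = 0 := by
    rw [map_smul]; exact hm _
  obtain ⟨w, hw⟩ := (KaehlerDifferential.exact_mapBaseChange_map V (Polynomial V) B _).mp hker
  have hspan : ∀ w, KaehlerDifferential.mapBaseChange V (Polynomial V) B w ∈
      Submodule.span B {KaehlerDifferential.D V B f} := by
    intro w
    induction w using TensorProduct.induction_on with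
    | zero => rw [map_zero]; exact zero_mem _
    | add a b ha hb => rw [map_add]; exact add_mem ha hb
    | tmul r ω =>
      rw [KaehlerDifferential.mapBaseChange_tmul]
      refine Submodule.smul_mem _ _ ?_
      have hω : ω ∈ Submodule.span (Polynomial V) (Set.range (KaehlerDifferential.D V (Polynomial V))) :=
        (KaehlerDifferential.span_range_derivation V (Polynomial V)).symm ▸ trivial
      induction hω using Submodule.span_induction with
      | mem y hy =>
        obtain ⟨p, rfl⟩ := hy
        rw [KaehlerDifferential.map_D, show algebraMap (Polynomial V) B p = Polynomial.aeval f p from rfl,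
          Derivation.map_aeval]
        exact Submodule.smul_mem _ _ (Submodule.mem_span_singleton_self _)
      | zero => rw [map_zero]; exact zero_mem _
      | add a b _ _ ha hb => rw [map_add]; exact add_mem ha hb
      | smul c a _ ha => rw [map_smul, ← algebraMap_smul B c]; exact Submodule.smul_mem _ _ ha
  obtain ⟨r, hr⟩ := Submodule.mem_span_singleton.mp (hw ▸ hspan w)
  have h1 := congrArg θ.liftKaehlerDifferential hr
  rw [map_smul, map_smul, Derivation.liftKaehlerDifferential_comp_D, Derivation.liftKaehlerDifferential_comp_D,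
    hθ0, smul_eq_mul, smul_eq_mul] at h1
  have hu : ¬ IsUnit (θ f) := by
    intro hu
    let hlift : ∀ y : Submonoid.powers h, IsUnit (origin ϖ hϖ y) := by
      rintro ⟨_, n, rfl⟩
      rw [map_pow]
      exact (isUnit_iff_ne_zero.mpr fun e => hh ((origin_eq_zero_iff ϖ hϖ h).mp e)).pow n
    let χ : B →ₐ[V] k := IsLocalization.liftAlgHom hlift
    letI : Algebra B k := χ.toRingHom.toAlgebra
    haveI : IsScalarTower V B k := IsScalarTower.of_algebraMap_eq fun a => (χ.commutes a).symm
    have hgen : ∀ n, algebraMap B k (bgen ϖ h n) = 0 := fun n => by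
      show χ (algebraMap (Q ϖ) B (gen ϖ n)) = 0
      rw [show χ (algebraMap (Q ϖ) B (gen ϖ n)) = origin ϖ hϖ (gen ϖ n) from IsLocalization.lift_eq _ _, origin_gen]
    have e : (Algebra.linearMap B k).compDer θ = 0 := derivation_ext ϖ h _ _ fun n => by
      obtain ⟨c, hc⟩ := hθ n
      show algebraMap B k (θ (bgen ϖ h n)) = 0
      rw [hc, map_mul, hgen, zero_mul]
    exact (hu.map (algebraMap B k)).ne_zero (congrArg (fun D : Derivation V B k => D f) e)
  have hxy : algebraMap V B ϖ = bgen ϖ h 0 * bgen ϖ h 1 := by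
    rw [← map_mul, gen_mul ϖ (by decide), ← IsScalarTower.algebraMap_apply]
  refine dvd_of_dvd_pow ϖ h hϖ hh (θ f) hu _ (m + 1) m r rfl ?_
  rw [hxy] at h1
  linear_combination h1

end NodeEtaLib
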